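import Groth.Agent.LC16.CanonQuot
import Groth.Agent.TF3.Basic
import Groth.Agent.InjHull18.Basic
import Mathlib.RingTheory.UniqueFactorizationDomain.Basic
import Mathlib.RingTheory.UniqueFactorizationDomain.Defs

/-!
A Cohen–Macaulay unique factorisation domain which is a quotient of a regular local ring is Gorenstein.
-/

universe u

set_option autoImplicit false

open IsLocalRing RingTheory.Sequence CategoryTheory
open scoped Pointwise

namespace Groth.Agent.Murthy18

variable {R : Type u} [CommRing R] [IsDomain R]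

/-- A torsion-free module with only scalar endomorphisms embeds into the ring. -/
theorem exists_embedding {K : Type u} [AddCommGroup K] [Module R K] [Module.Finite R K] [Nontrivial K]
    [Module.IsTorsionFree R K] (hEnd : ∀ φ : K →ₗ[R] K, ∃ r : R, φ = r • LinearMap.id) :
    ∃ g : K →ₗ[R] R, Function.Injective g := by
  obtain ⟨k, hk⟩ := exists_ne (0 : K)
  have h0 : Module.Dual.eval R K k ≠ 0 := fun h => hk (TF3.eval_injective (h.trans (map_zero _).symm))
  obtain ⟨g, hg⟩ : ∃ g : K →ₗ[R] R, g k ≠ 0 := by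
    by_contra h
    push_neg at h
    exact h0 (LinearMap.ext h)
  refine ⟨g, (injective_iff_map_eq_zero g).2 fun x hx => ?_⟩
  obtain ⟨r, hr⟩ := hEnd (g.smulRight k)
  have h1 : g k • k = r • k := LinearMap.congr_fun hr k
  have hr0 : r ≠ 0 := fun h => hg (smul_left_injective R hk (by simpa [h] using h1))
  have h2 : g x • k = r • x := LinearMap.congr_fun hr x
  rw [hx, zero_smul] at h2
  exact (smul_eq_zero.1 h2.symm).resolve_left hr0

set_option linter.unusedSectionVars false
set_option linter.overlappingInstances false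

variable [IsLocalRing R] [IsNoetherianRing R] [UniqueFactorizationMonoid R]

omit [UniqueFactorizationMonoid R] in
/-- An ideal isomorphic to `K` which lies in no proper principal prime ideal. -/
theorem exists_equiv_ideal {K : Type u} [AddCommGroup K] [Module R K] [Nontrivial K] (g : K →ₗ[R] R)
    (hg : Function.Injective g) :
    ∃ J : Ideal R, J ≠ ⊥ ∧ Nonempty (K ≃ₗ[R] J) ∧ ∀ q : R, Prime q → ¬ J ≤ Ideal.span {q} := by
  let S : Set (Ideal R) := {J | Nonempty (K ≃ₗ[R] J)}
  have hS : S.Nonempty := ⟨LinearMap.range g, ⟨LinearEquiv.ofInjective g hg⟩⟩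
  obtain ⟨J, hJS, hmax⟩ := set_has_maximal_iff_noetherian.2 inferInstance S hS
  obtain ⟨e⟩ := hJS
  have hne : J ≠ ⊥ := by
    rintro rfl
    exact not_subsingleton K e.toEquiv.subsingleton
  refine ⟨J, hne, ⟨e⟩, fun q hq hle => ?_⟩
  let J' : Ideal R := Submodule.comap (LinearMap.mulLeft R q) J
  let m : J' →ₗ[R] J := (LinearMap.mulLeft R q).restrict fun _ h => h
  have hm : Function.Bijective m := by
    refine ⟨fun a b h => Subtype.ext (mul_left_cancel₀ hq.ne_zero (congrArg Subtype.val h)), fun b => ?_⟩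
    obtain ⟨c, hc⟩ := Ideal.mem_span_singleton'.1 (hle b.2)
    have hcq : q * c = b.1 := by rw [mul_comm]; exact hc
    exact ⟨⟨c, show q * c ∈ J from hcq.symm ▸ b.2⟩, Subtype.ext hcq⟩
  have hle' : J ≤ J' := fun a ha => Ideal.mul_mem_left J q ha
  have h2 : J' ∈ S := ⟨e.trans (LinearEquiv.ofBijective m hm).symm⟩
  have heq : J = J' := hle'.eq_or_lt.resolve_right (hmax J' h2)
  refine hne (Submodule.eq_bot_of_le_smul_of_le_jacobson_bot (Ideal.span {q}) J (IsNoetherian.noetherian J) ?_ ?_)
  · intro b hb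
    obtain ⟨c, hc⟩ := Ideal.mem_span_singleton'.1 (hle hb)
    have hcJ : c ∈ J := by
      rw [heq]
      change q * c ∈ J
      rwa [mul_comm, hc]
    rw [← hc, mul_comm]
    exact Submodule.smul_mem_smul (Ideal.mem_span_singleton_self q) hcJ
  · rw [IsLocalRing.jacobson_eq_maximalIdeal ⊥ bot_ne_top, Ideal.span_le, Set.singleton_subset_iff]
    exact (mem_maximalIdeal q).2 hq.not_isUnit

/-- Coprime elements in an ideal lying in no proper principal prime ideal. -/
theorem exists_isRelPrime {J : Ideal R} (hJ : J ≠ ⊥) (h : ∀ q : R, Prime q → ¬ J ≤ Ideal.span {q}) :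
    ∃ x ∈ J, ∃ y ∈ J, x ≠ 0 ∧ IsRelPrime x y := by
  classical
  obtain ⟨x, hx, hx0⟩ := Submodule.exists_mem_ne_zero_of_ne_bot hJ
  refine ⟨x, hx, ?_⟩
  by_contra! hcon
  have hsub : (J : Set R) ⊆ ⋃ q ∈ (↑(UniqueFactorizationMonoid.factors x).toFinset : Set R),
      (Ideal.span {q} : Set R) := by
    intro y hy
    obtain ⟨d, hdx, hdy, hd⟩ : ∃ d, d ∣ x ∧ d ∣ y ∧ Prime d := by
      by_contra! hno
      exact hcon y hy hx0 (WfDvdMonoid.isRelPrime_of_no_irreducible_factors (fun h => hx0 h.1)
        fun z hz hzx hzy => hno z hzx hzy (UniqueFactorizationMonoid.irreducible_iff_prime.1 hz))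
    obtain ⟨q, hq, hdq⟩ := UniqueFactorizationMonoid.exists_mem_factors_of_dvd hx0 hd.irreducible hdx
    exact Set.mem_biUnion (Multiset.mem_toFinset.2 hq) (Ideal.mem_span_singleton.2 (hdq.symm.dvd.trans hdy))
  obtain ⟨q, hq, hle⟩ := (Ideal.subset_union_prime 0 0 fun q hq _ _ =>
    (Ideal.span_singleton_prime (UniqueFactorizationMonoid.prime_of_factor q (Multiset.mem_toFinset.1 hq)).ne_zero).2
      (UniqueFactorizationMonoid.prime_of_factor q (Multiset.mem_toFinset.1 hq))).1 hsub
  exact h q (UniqueFactorizationMonoid.prime_of_factor q (Multiset.mem_toFinset.1 hq)) hle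

/-- A canonical module of a unique factorisation domain is free. -/
theorem nonempty_equiv_self [LocCoh.IsCohenMacaulayLocalRing R] {n : ℕ} (hn : ringKrullDim R = n) {E : Type u}
    [AddCommGroup E] [Module R E] {f : ResidueField R →ₗ[R] E} (hf : InjHull.IsInjectiveHull f) {K : Type u}
    [AddCommGroup K] [Module R K] [Module.Finite R K]
    (eK : (K →ₗ[R] E) ≃ₗ[R] LocCoh.H (maximalIdeal R) n R) : Nonempty (K ≃ₗ[R] R) := by
  have := LC16.CanonDual.nontrivial_of_dual hn eK
  have hp := LC16.CanonSeq.pair_self hn eK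
  have htf : Module.IsTorsionFree R K := by
    refine ⟨fun r hr => ?_⟩
    by_cases hu : IsUnit r
    · exact hu.smul_bijective.1
    · exact (LC16.CanonSeq.regular_iff hf ((mem_maximalIdeal r).2 hu) hp).1
        (IsSMulRegular.of_ne_zero hr.ne_zero)
  obtain ⟨g, hg⟩ := exists_embedding fun φ => by
    obtain ⟨r, hr⟩ := (LC16.CanonSeq.toEnd_bijective hn hf eK).2 φ
    exact ⟨r, hr.symm⟩
  obtain ⟨J, hJ0, ⟨e⟩, hJ⟩ := exists_equiv_ideal g hg
  by_cases hJt : J = ⊤
  · subst hJt
    exact ⟨e.trans Submodule.topEquiv⟩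
  exfalso
  obtain ⟨x, hx, y, hy, hx0, hxy⟩ := exists_isRelPrime hJ0 hJ
  have hRreg : IsWeaklyRegular R [x, y] := by
    rw [isWeaklyRegular_cons_iff, isWeaklyRegular_cons_iff]
    refine ⟨IsSMulRegular.of_ne_zero hx0, isSMulRegular_iff_right_eq_zero_of_smul.2 fun a ha => ?_,
      IsWeaklyRegular.nil _ _⟩
    obtain ⟨z, rfl⟩ := Submodule.Quotient.mk_surjective _ a
    rw [← Submodule.Quotient.mk_smul, Submodule.Quotient.mk_eq_zero, Submodule.mem_smul_pointwise_iff_exists] at ha
    obtain ⟨c, -, hc⟩ := ha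
    have hdvd : x ∣ y * z := ⟨c, hc.symm⟩
    obtain ⟨d, hd⟩ := hxy.dvd_of_dvd_mul_left hdvd
    rw [Submodule.Quotient.mk_eq_zero, Submodule.mem_smul_pointwise_iff_exists]
    exact ⟨d, trivial, hd.symm⟩
  have hKreg := (LC16.CanonSeq.weaklyRegular_iff hf [x, y] (fun a ha => by
    rcases List.mem_cons.1 ha with rfl | ha
    · exact le_maximalIdeal hJt hx
    · rcases List.mem_cons.1 ha with rfl | ha
      · exact le_maximalIdeal hJt hy
      · exact absurd ha List.not_mem_nil) hp).1.1 hRreg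
  rw [isWeaklyRegular_cons_iff, isWeaklyRegular_cons_iff] at hKreg
  have hky : y • e.symm ⟨x, hx⟩ = x • e.symm ⟨y, hy⟩ := by
    rw [← map_smul, ← map_smul]
    exact congrArg _ (Subtype.ext (mul_comm y x))
  have h0 : (Submodule.Quotient.mk (e.symm ⟨x, hx⟩) : QuotSMulTop x K) = 0 := by
    refine isSMulRegular_iff_right_eq_zero_of_smul.1 hKreg.2.1 _ ?_
    rw [← Submodule.Quotient.mk_smul, hky, Submodule.Quotient.mk_eq_zero]
    exact Submodule.smul_mem_pointwise_smul _ _ _ trivial
  rw [Submodule.Quotient.mk_eq_zero, Submodule.mem_smul_pointwise_iff_exists] at h0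
  obtain ⟨k, -, hk⟩ := h0
  have hk' : x * (e k : R) = x := by
    have := congrArg e hk
    rw [map_smul, e.apply_symm_apply] at this
    exact congrArg Subtype.val this
  have h1 : (e k : R) = 1 := mul_left_cancel₀ hx0 (by rw [hk', mul_one])
  exact hJt ((Ideal.eq_top_iff_one J).2 (h1 ▸ (e k).2))

end Groth.Agent.Murthy18
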